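import Mathlib
import Groth.Prelude.Def_AlgSpRep
import Groth.Agent.S10067

/-! Composition, cancellation and base change of relatively limit preserving transformations. -/

set_option autoImplicit false
universe u
open CategoryTheory CategoryTheory.Limits AlgebraicGeometry Opposite

namespace Groth.Agent.RelLP

variable {S : Scheme.{u}} {F G H : AlgSp.PSp S}

theorem comp (a : F ⟶ G) (b : G ⟶ H) (ha : AlgSp.IsRelLimitPreserving a) (hb : AlgSp.IsRelLimitPreserving b) :
    AlgSp.IsRelLimitPreserving (a ≫ b) := by
  rw [S10067.result] at ha hb ⊢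
  intro I _ _ D c hc hD hT
  have := (ha D c hc hD hT).paste_horiz (hb D c hc hD hT)
  convert this using 1
  · apply colimit.hom_ext
    intro i
    simp
  · exact NatTrans.comp_app _ _ _

theorem of_comp (a : F ⟶ G) (b : G ⟶ H) (hab : AlgSp.IsRelLimitPreserving (a ≫ b))
    (hb : AlgSp.IsRelLimitPreserving b) : AlgSp.IsRelLimitPreserving a := by
  rw [S10067.result] at hab hb ⊢
  intro I _ _ D c hc hD hT
  refine IsPullback.of_right ?_ ?_ (hb D c hc hD hT)
  · convert hab D c hc hD hT using 1
    · apply colimit.hom_ext
      intro i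
      simp
    · exact (NatTrans.comp_app _ _ _).symm
  · apply colimit.hom_ext
    intro i
    simp only [ι_colimMap_assoc, colimit.ι_desc, colimit.ι_desc_assoc]
    ext x
    exact (NatTrans.naturality_apply a (c.π.app i.unop).op x).symm

theorem baseChange {P : AlgSp.PSp S} (fst : P ⟶ F) (snd : P ⟶ G) (a : F ⟶ H) (b : G ⟶ H)
    (hP : IsPullback fst snd a b) (hb : AlgSp.IsRelLimitPreserving b) :
    AlgSp.IsRelLimitPreserving fst := by
  intro T y
  have hp : ∀ (U : Over S), IsPullback (fst.app (op U)) (snd.app (op U)) (a.app (op U)) (b.app (op U)) :=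
    fun U => hP.map ((evaluation _ _).obj (op U))
  let τ : AlgSp.fiberFun fst T y ⟶ AlgSp.fiberFun b T (a.app _ y) :=
    { app := fun T' => ↾fun x => ⟨snd.app _ x.1, by
        have h1 : b.app _ (snd.app _ x.1) = a.app _ (fst.app _ x.1) := by
          rw [← ConcreteCategory.comp_apply, ← ConcreteCategory.comp_apply, (hp _).w]
        rw [h1, x.2, NatTrans.naturality_apply]⟩
      naturality := fun T' T'' f => by
        ext x
        apply Subtype.ext
        exact NatTrans.naturality_apply snd ((Over.map T.hom).map f.unop).op x.1 }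
  have : ∀ T', IsIso (τ.app T') := fun T' => by
    rw [isIso_iff_bijective]
    constructor
    · intro x x' h
      apply Subtype.ext
      exact Types.ext_of_isPullback (hp _) (x.2.trans x'.2.symm) (congrArg Subtype.val h)
    · intro z
      obtain ⟨x, hx1, hx2⟩ := Types.exists_of_isPullback (hp _) (F.map (AlgSp.overHom T T'.unop).op y) z.1
        (by rw [NatTrans.naturality_apply]; exact z.2.symm)
      exact ⟨⟨x, hx1⟩, Subtype.ext hx2⟩
  have : IsIso τ := NatIso.isIso_of_isIso_app τ
  exact (hb T (a.app _ y)).of_iso (asIso τ).symm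

end Groth.Agent.RelLP
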